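import Cfsg.Agent.H282.SK.Def
import Cfsg.Agent.H831.FF.Elts
import Cfsg.Agent.H831.FF.Trace
import Cfsg.Agent.KFacts.CoTwo.Main
import Cfsg.Agent.BpSpor.CoTwoFive
import Cfsg.Agent.H663.ObCo2

/-!
# S3010 (Sidki pairs): the row `Co2` (helper111)

Traces of the involutions on the 24-dimensional space: -8 (2A), 8 (2B), 0 (2C).
* 2C inverts an element `x` of order 11 and there are no elements of order 22: (T0);
* 2B inverts an element `x` of order 5 with fixed space of dimension 8 and commutes with an element `y` of order 5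
  commuting with `x`: `y` centralises `O_2(C(⟨v, x⟩))` and no involution commutes with `⟨x, y⟩`: (T1);
* 2A: the subgroup `V` is 2A-pure, so that the sum of the traces is negative.
-/

set_option autoImplicit false

universe u

namespace Cfsg.Agent.H111.SK.Co2

open Cfsg Cfsg.Spor Subgroup Module
open Cfsg.Agent.H282.SK
open Cfsg.Agent.BpSpor.Co2.Five
open Cfsg.Agent.SigZeroCo2.Rank (fix mem_fix)
open Cfsg.Agent.SigZeroCo2.Lin (rep Sp finrank_fix_two)
open Cfsg.Agent.PreUniqCo.FixBound (finrank_conj)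
open Cfsg.Agent.Co2Type.Mono (tr8 tr8_conj toCo0 toCo0_injective mo2 tr toCo0_smul)
open Cfsg.Agent.Co2Type.TData (mz my mv)
open Cfsg.Agent.SporadicStructure.M24El (idP)
open Cfsg.Agent.Co2Type.FactsClass (classes conj_y_of_tr tr_z)
open Cfsg.Agent.H831.FF

/-! ### The elements -/

/-- the letters of `Five` in `Co2` -/
noncomputable def e (k : ℕ) : Spor.Co2 :=
  if h : k < 6 ∧ k ≠ 4 then ⟨(Five.el k : Co0), (Five.el k).2, Five.fixU h.1 h.2⟩ else 1

theorem toCo0_e {k : ℕ} (hk : k < 6) (h4 : k ≠ 4) : toCo0 (e k) = Five.el k := by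
  unfold e
  rw [dif_pos ⟨hk, h4⟩]
  rfl

theorem el_comm : Five.el 3 * Five.el 2 = Five.el 2 * Five.el 3 := by
  have h : LeechMat.Words.prodW Five.el [3, 2] = LeechMat.Words.prodW Five.el [2, 3] :=
    Five.rel (by decide) (by decide +kernel)
  simpa only [LeechMat.Words.prodW, mul_one] using h

theorem ne_zero : Five.el 0 ≠ 1 := by
  intro h
  have h1 : Five.el 1 * Five.el 0 * (Five.el 1)⁻¹ = Five.el 0 * Five.el 2 := Five.heis.conj 0
  rw [h, mul_one, mul_inv_cancel, one_mul] at h1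
  exact Five.ne_2 h1.symm

theorem orderOf_e0 : orderOf (e 0) = 5 := by
  have := Fact.mk (show Nat.Prime 5 by norm_num)
  have h0 := toCo0_e (k := 0) (by norm_num) (by norm_num)
  refine orderOf_eq_prime ?_ ?_
  · apply toCo0_injective
    rw [map_pow, map_one, h0]
    exact Five.heis.xr 0
  · intro h
    apply ne_zero
    rw [← h0, h, map_one]

theorem orderOf_e2 : orderOf (e 2) = 5 := by
  have := Fact.mk (show Nat.Prime 5 by norm_num)
  have h2 := toCo0_e (k := 2) (by norm_num) (by norm_num)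
  refine orderOf_eq_prime ?_ ?_
  · apply toCo0_injective
    rw [map_pow, map_one, h2]
    exact Five.heis.zr
  · intro h
    apply Five.ne_2
    rw [← h2, h, map_one]

theorem comm_e02 : Commute (e 0) (e 2) := by
  apply toCo0_injective
  rw [map_mul, map_mul, toCo0_e (by norm_num) (by norm_num), toCo0_e (by norm_num) (by norm_num)]
  exact (Five.heis.zx 0).symm

theorem comm_e32 : Commute (e 3) (e 2) := by
  apply toCo0_injective
  rw [map_mul, map_mul, toCo0_e (by norm_num) (by norm_num), toCo0_e (by norm_num) (by norm_num)]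
  exact el_comm

theorem inv_e3 : e 3 * e 0 * (e 3)⁻¹ = (e 0)⁻¹ := by
  apply toCo0_injective
  rw [map_mul, map_mul, map_inv, map_inv, toCo0_e (by norm_num) (by norm_num), toCo0_e (by norm_num) (by norm_num)]
  exact Five.inv3

theorem e3_sq : e 3 * e 3 = 1 := by
  apply toCo0_injective
  rw [map_mul, map_one, toCo0_e (by norm_num) (by norm_num)]
  exact Five.sq3

theorem tr8_e3 : tr8 (toCo0 (e 3)) = 64 := by
  rw [toCo0_e (by norm_num) (by norm_num), Five.tr8_3]

theorem tr_e3 : tr (e 3) = 8 := by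
  unfold tr
  rw [tr8_e3]
  norm_num

theorem orderOf_conj {G : Type*} [Group G] (g x : G) : orderOf (g * x * g⁻¹) = orderOf x := by
  simpa using MulEquiv.orderOf_eq (MulAut.conj g) x

/-- an involution of class 2C inverts an element of order 11 -/
theorem exC {s : Spor.Co2} (hs : IsConj (mo2 mv idP) s) : ∃ x : Spor.Co2, orderOf x = 11 ∧ s * x * s⁻¹ = x⁻¹ := by
  obtain ⟨g, rfl⟩ := isConj_iff.1 hs
  refine ⟨g * H663.ObCo2.w * g⁻¹, ?_, ?_⟩
  · rw [orderOf_conj, H663.ObCo2.orderOf_w]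
  · have h1 : mo2 mv idP * H663.ObCo2.w * (mo2 mv idP)⁻¹ = H663.ObCo2.w⁻¹ := by
      have h2 := H663.ObCo2.t_w_t
      have h3 : (mo2 mv idP)⁻¹ = mo2 mv idP := inv_eq_of_mul_eq_one_right H663.ObCo2.t_sq
      rw [h3]
      exact h2
    calc g * mo2 mv idP * g⁻¹ * (g * H663.ObCo2.w * g⁻¹) * (g * mo2 mv idP * g⁻¹)⁻¹
        = g * (mo2 mv idP * H663.ObCo2.w * (mo2 mv idP)⁻¹) * g⁻¹ := by group
      _ = (g * H663.ObCo2.w * g⁻¹)⁻¹ := by rw [h1]; group

/-- an involution of class 2B inverts `x` and commutes with `y` -/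
theorem exB {s : Spor.Co2} (hs : IsConj (mo2 my idP) s) : tr8 (toCo0 s) = 64 ∧ ∃ x y : Spor.Co2, orderOf x = 5 ∧
    orderOf y = 5 ∧ Commute x y ∧ Commute s y ∧ s * x * s⁻¹ = x⁻¹ := by
  obtain ⟨g, rfl⟩ := isConj_iff.1 ((conj_y_of_tr e3_sq tr_e3).symm.trans hs)
  refine ⟨by rw [map_mul, map_mul, map_inv, tr8_conj, tr8_e3], g * e 0 * g⁻¹, g * e 2 * g⁻¹, ?_, ?_, ?_, ?_, ?_⟩
  · rw [orderOf_conj, orderOf_e0]
  · rw [orderOf_conj, orderOf_e2]
  · exact Commute.map comm_e02 (MulAut.conj g)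
  · exact Commute.map comm_e32 (MulAut.conj g)
  · calc g * e 3 * g⁻¹ * (g * e 0 * g⁻¹) * (g * e 3 * g⁻¹)⁻¹ = g * (e 3 * e 0 * (e 3)⁻¹) * g⁻¹ := by group
      _ = (g * e 0 * g⁻¹)⁻¹ := by rw [inv_e3]; group

/-! ### The class 2B -/

/-- the fixed space of `x` has dimension eight -/
theorem dim_eight {t x : Co0} (ht : t * t = 1) (htr : tr8 t = 64) (hx : x ^ 5 = 1) (hinv : t * x * t⁻¹ = x⁻¹) :
    8 ≤ finrank ℚ (fix (rep x)) := by
  have h16 : finrank ℚ (fix (rep t)) = 16 := by
    have h1 := finrank_fix_two ht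
    rw [htr] at h1
    have h2 : (finrank ℚ (fix (rep t)) : ℚ) = (16 : ℕ) := by
      push_cast
      push_cast at h1
      linarith
    exact_mod_cast h2
  have h16' := finrank_conj t x
  rw [h16] at h16'
  have h3 := Submodule.finrank_sup_add_finrank_inf_eq (fix (rep t)) (fix (rep (x * t * x⁻¹)))
  have h4 : finrank ℚ ↥(fix (rep t) ⊔ fix (rep (x * t * x⁻¹))) ≤ 24 := by
    rw [← CpAutCoFive.finrank_Sp]
    exact Submodule.finrank_le _
  have h5 : fix (rep t) ⊓ fix (rep (x * t * x⁻¹)) ≤ fix (rep x) := by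
    rintro u ⟨hu1', hu2'⟩
    have hu1 := mem_fix.1 hu1'
    have hu2 := mem_fix.1 hu2'
    rw [mem_fix]
    have h6 : x * t * x⁻¹ * t = x ^ 2 := by
      have h7 : t⁻¹ = t := inv_eq_of_mul_eq_one_right ht
      calc x * t * x⁻¹ * t = x * (t⁻¹ * x * t)⁻¹ := by
            rw [h7, mul_inv_rev, mul_inv_rev, h7]
            group
        _ = x * (t * x * t⁻¹)⁻¹ := by rw [h7]
        _ = x ^ 2 := by rw [hinv, inv_inv, pow_two]
    have h7 : rep (x ^ 2) u = u := by
      rw [← h6, map_mul, Module.End.mul_apply, hu1, hu2]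
    have h8 : x = (x ^ 2) ^ 3 := by
      rw [← pow_mul, show 2 * 3 = 5 + 1 from rfl, pow_add, hx, one_mul, pow_one]
    rw [h8, map_pow, pow_succ, pow_succ, pow_one, Module.End.mul_apply, Module.End.mul_apply, h7, h7, h7]
  have h6 := Submodule.finrank_mono h5
  omega

/-- **The core argument.** -/
theorem core {G : Type*} [Group G] [Finite G] (F : G →* Spor.Co2) (hF : Function.Injective F) {v x y w : G}
    (hv : v * v = 1) (htr : tr8 (toCo0 (F v)) = 64) (hx : orderOf x = 5) (hy : orderOf y = 5) (hxy : Commute x y)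
    (hvy : Commute v y) (hinv : v * x * v⁻¹ = x⁻¹)
    (hw : w ∈ O2 (centralizer ({v} : Set G) ⊓ centralizer ({x} : Set G))) (hww : w * w = 1) : w = 1 := by
  obtain ⟨D, hD⟩ : ∃ D, D = centralizer ({v} : Set G) ⊓ centralizer ({x} : Set G) := ⟨_, rfl⟩
  rw [← hD] at hw
  obtain ⟨H, hH⟩ : ∃ H, H = centralizer ({x} : Set G) := ⟨_, rfl⟩
  have hDH : D ≤ H := by rw [hD, hH]; exact inf_le_right
  have hxH : x ∈ H := by rw [hH, mem_centralizer_singleton_iff]
  have hyD : y ∈ D := by
    rw [hD]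
    exact ⟨mem_centralizer_singleton_iff.2 hvy.symm.eq, mem_centralizer_singleton_iff.2 hxy.symm.eq⟩
  let φ : H →* Co0 := toCo0.comp (F.comp H.subtype)
  have hφ : Function.Injective φ := toCo0_injective.comp (hF.comp H.subtype_injective)
  let c : H := ⟨x, hxH⟩
  let d : H := ⟨y, hDH hyD⟩
  have hcc : ∀ g : H, g * c = c * g := fun g => Subtype.ext (by
    have h1 : (g : G) ∈ centralizer ({x} : Set G) := hH ▸ g.2
    exact mem_centralizer_singleton_iff.1 h1)
  have hc5 : orderOf c = 5 := (Subgroup.orderOf_mk x hxH).trans hx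
  have hd5 : orderOf d = 5 := (Subgroup.orderOf_mk y _).trans hy
  have hvne : Spor.leechU ≠ 0 := ne_zero_of_norm norm_leechU
  have hfix : ∀ h, φ h • Spor.leechU = Spor.leechU := fun h => toCo0_smul _
  -- `y ∉ ⟨x⟩`
  have hdc : d ∉ zpowers c := by
    rintro ⟨k, hk⟩
    have h1 : x ^ k = y := congrArg Subtype.val hk
    have h2 : v * y * v⁻¹ = y⁻¹ := by
      rw [← h1, ← inv_zpow, ← hinv, conj_zpow]
    rw [hvy.eq, mul_inv_cancel_right] at h2
    have h3 : y ^ 2 = 1 := by
      rw [pow_two]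
      nth_rewrite 2 [h2]
      exact mul_inv_cancel y
    have h4 := orderOf_dvd_of_pow_eq_one h3
    rw [hy] at h4
    norm_num at h4
  -- the dimension
  have hx5 : x ^ 5 = 1 := by rw [← hx, pow_orderOf_eq_one]
  have h8 : finrank ℚ (fix (rep (φ c))) = 8 := by
    have h1 : 8 ≤ finrank ℚ (fix (rep (φ c))) := by
      refine dim_eight (t := toCo0 (F v)) (x := toCo0 (F x)) ?_ htr ?_ ?_
      · rw [← map_mul, ← map_mul, hv, map_one, map_one]
      · rw [← map_pow, ← map_pow, hx5, map_one, map_one]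
      · rw [← map_mul, ← map_mul, ← map_inv, ← map_inv, ← map_mul, ← map_mul, hinv, map_inv, map_inv]
    rcases dim_cases hφ hvne hfix hc5 with h2 | h2
    · omega
    · exact h2
  -- `y` centralises `O_2`
  have hOH : O2 D ≤ H := (O2_le D).trans hDH
  have hS : IsPGroup 2 ((O2 D).subgroupOf H) := (isPGroup_O2 D).comap_of_injective _ H.subtype_injective
  have hdN : d ∈ normalizer (((O2 D).subgroupOf H : Subgroup H) : Set H) := by
    rw [mem_normalizer_iff]
    intro g
    have h1 := mem_normalizer_iff.1 (le_normalizer_O2 D hyD) (g : G)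
    rw [mem_subgroupOf, mem_subgroupOf]
    exact h1
  have hcen := two_group hφ hvne hfix hc5 hcc h8 (y := d) (n := 1) (by
    rw [pow_one, ← hd5, pow_orderOf_eq_one]) hS hdN
  let w' : H := ⟨w, hOH hw⟩
  have hw' : w' ∈ (O2 D).subgroupOf H := hw
  have h1 : w' * d = d * w' := mem_centralizer_singleton_iff.1 (hcen hw')
  have h2 : φ w' = 1 := by
    have cxd : Commute (φ c) (φ d) := (show Commute c d from (hcc d).symm).map φ
    have cxw : Commute (φ c) (φ w') := (show Commute c w' from (hcc w').symm).map φ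
    have cdw : Commute (φ d) (φ w') := (show Commute d w' from h1.symm).map φ
    have hww' : w' * w' = 1 := Subtype.ext hww
    exact eq_one_of_pair (by rw [← map_pow, ← hc5, pow_orderOf_eq_one, map_one])
      (by rw [← map_pow, ← hd5, pow_orderOf_eq_one, map_one]) cxd (dims hφ hvne hfix hc5 hcc hd5 hdc)
      (by rw [← map_mul, hww', map_one]) cxw cdw hvne (hfix c) (hfix d) (hfix w')
  have h3 : w' = 1 := hφ (h2.trans (map_one φ).symm)
  exact congrArg Subtype.val h3

/-! ### The class 2A -/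

theorem tr8_mz : tr8 (toCo0 (mo2 mz idP)) = -64 := by
  rw [Co2Type.Mono.toCo0_mo2 Co2Type.TChecks.inE_mz Co2Type.Mono.okP_idP,
    Co2Type.Mono.tr8_mo (Co2Type.Mono.isCode_of_inE Co2Type.TChecks.inE_mz) (Co2Type.Mono.ok_of_okP Co2Type.Mono.okP_idP),
    Co2Type.FactsClass.trN_idP Co2Type.TChecks.inE_mz]
  have : SporadicA.GolayBase.popcount mz = 16 := by decide +kernel
  rw [this]
  norm_num

/-- the sum of the traces is not negative -/
theorem sum_neg {A : Type*} [Group A] [Finite A] (φ : A →* Co0) (h : ∀ a : A, a ≠ 1 → tr8 (φ a) = -64)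
    (h8 : 8 ≤ Nat.card A) : False := by
  classical
  have := Fintype.ofFinite A
  obtain ⟨f, hf⟩ := exists_sum φ
  have h1 : ∑ a : A, tr8 (φ a) = 192 + ((Nat.card A : ℤ) - 1) * (-64) := by
    rw [← Finset.add_sum_erase _ _ (Finset.mem_univ (1 : A)), map_one, tr8_one]
    congr 1
    rw [Finset.sum_congr rfl fun a ha => h a (Finset.ne_of_mem_erase ha), Finset.sum_const,
      Finset.card_erase_of_mem (Finset.mem_univ _), Finset.card_univ, nsmul_eq_mul, Nat.card_eq_fintype_card,
      Nat.cast_sub (Nat.one_le_iff_ne_zero.2 Fintype.card_ne_zero), Nat.cast_one]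
  rw [h1] at hf
  have h2 : (0 : ℤ) ≤ 8 * (f * Nat.card A) := by positivity
  have h3 : (8 : ℤ) ≤ Nat.card A := by exact_mod_cast h8
  linarith

/-! ### The row -/

section

variable {G : Type u} [Group G] [Finite G] {V K : Subgroup G}

/-- If all automorphisms of `K` are inner then `K = G`. -/
theorem top_of_inner (h : Cx V K) (hin : ∀ α : MulAut K, ∃ k : K, α = MulAut.conj k) : K = ⊤ := by
  have := h.norm
  rw [eq_top_iff]
  intro g _
  obtain ⟨k, hk⟩ := hin (MulAut.conjNormal g)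
  have h1 : (k : G)⁻¹ * g = 1 := by
    apply h.eq_one_of_comm
    intro x hx
    have h2 := congrArg (fun α : MulAut K => ((α ⟨x, hx⟩ : K) : G)) hk
    simp only [MulAut.conjNormal_apply, MulAut.conj_apply, Subgroup.coe_mul, Subgroup.coe_inv] at h2
    calc (k : G)⁻¹ * g * x = (k : G)⁻¹ * (g * x * g⁻¹) * g := by group
      _ = (k : G)⁻¹ * ((k : G) * x * (k : G)⁻¹) * g := by rw [h2]
      _ = x * ((k : G)⁻¹ * g) := by group
  have h3 : g = k := by
    calc g = (k : G) * ((k : G)⁻¹ * g) := by group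
      _ = k := by rw [h1, mul_one]
  rw [h3]
  exact k.2

theorem not_C (h : Cx V K) (F : G ≃* Spor.Co2) {v : G} (hv : v ∈ V) (hc : IsConj (mo2 mv idP) (F v)) : False := by
  obtain ⟨x, hx, hi⟩ := exC hc
  obtain ⟨w, hwV, hw1, hwx⟩ := h.t0 hv (x := F.symm x) (by rw [F.symm.orderOf_eq, hx]; decide) (by
    apply F.injective
    rw [map_mul, map_mul, map_inv, map_inv, F.apply_symm_apply]
    exact hi)
  have h1 : Commute (F w) x := by
    have := hwx.map F
    rwa [F.apply_symm_apply] at this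
  have := Fact.mk Nat.prime_two
  have h2 : orderOf (F w) = 2 := by
    rw [F.orderOf_eq]
    refine orderOf_eq_prime ?_ hw1
    rw [pow_two]
    exact h.sq hwV
  apply H663.ObCo2.not22 (F w * x)
  rw [h1.orderOf_mul_eq_mul_orderOf_of_coprime (by rw [h2, hx]; norm_num), h2, hx]

theorem not_B (h : Cx V K) (F : G ≃* Spor.Co2) {v : G} (hv : v ∈ V) (hv1 : v ≠ 1)
    (hc : IsConj (mo2 my idP) (F v)) : False := by
  obtain ⟨htr, x, y, hx, hy, hxy, hsy, hi⟩ := exB hc
  have hinv : v * F.symm x * v⁻¹ = (F.symm x)⁻¹ := by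
    apply F.injective
    rw [map_mul, map_mul, map_inv, map_inv, F.apply_symm_apply]
    exact hi
  obtain ⟨w, hwV, hw1, -, hwO⟩ := h.t1 hv hv1 (x := F.symm x) (by rw [F.symm.orderOf_eq, hx]; decide) hinv
  apply hw1
  refine core F.toMonoidHom F.injective (h.sq hv) htr (x := F.symm x) (y := F.symm y) ?_ ?_ ?_ ?_ hinv hwO (h.sq hwV)
  · rw [F.symm.orderOf_eq, hx]
  · rw [F.symm.orderOf_eq, hy]
  · exact hxy.map F.symm
  · have := hsy.map F.symm
    rwa [F.symm_apply_apply] at this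

end

/-- **The row `Co2`** of S3010. -/
theorem dead : Cfsg.Agent.H282.SK.DeadS.{u} (fun K _ => Cfsg.Spor.IsoCo2 K) := by
  rintro G _ _ V K h ⟨f⟩
  have hK := top_of_inner h (KFacts.CoTwo.Main.allInner_iso f)
  let F : G ≃* Spor.Co2 := (Subgroup.topEquiv.symm.trans (MulEquiv.subgroupCongr hK.symm)).trans f
  refine sum_neg (toCo0.comp (F.toMonoidHom.comp V.subtype)) ?_ h.card
  intro a ha
  have ha1 : (a : G) ≠ 1 := fun h1 => ha (Subtype.ext h1)
  show tr8 (toCo0 (F a)) = -64
  rcases classes (x := F a) (by rw [← map_mul, h.sq a.2, map_one])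
    (fun h1 => ha1 (F.injective (h1.trans (map_one F).symm))) with h1 | h1 | h1
  · obtain ⟨g, hg⟩ := isConj_iff.1 h1
    rw [← hg, map_mul, map_mul, map_inv, tr8_conj]
    exact tr8_mz
  · exact (not_B h F a.2 ha1 h1).elim
  · exact (not_C h F a.2 h1).elim

end Cfsg.Agent.H111.SK.Co2
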